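import Groth.Agent.Lib.ArAdj22.Comp
import Groth.Prelude.Def_Canon
import Groth.Agent.Lib.P1Pow11.Base
import Groth.Agent.Lib.TensorMod.IdealMod

set_option autoImplicit false
set_option backward.isDefEq.respectTransparency false
set_option backward.isDefEq.respectTransparency.types false
set_option synthInstance.maxHeartbeats 400000
set_option maxHeartbeats 1600000
universe u
open AlgebraicGeometry CategoryTheory CategoryTheory.Limits


namespace Groth.Agent.ArAdj22
open Groth.Agent

/-- A closed immersion with invertible ideal has the normal bundle as a canonical sheaf. -/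
theorem isCanonical_divisor {D X : Scheme.{u}} (i : D ⟶ X) [IsClosedImmersion i]
    (hI : PicF.IsInvertible (ClSub.idealMod i.ker)) (L : X.Modules)
    (hL : ClSub.IsInverseOf L (ClSub.idealMod i.ker)) :
    Canon.IsCanonical i ((Scheme.Modules.pullback i).obj L) := by
  obtain ⟨e⟩ := hL
  refine ⟨X, i, 𝟙 X, 1, 0, Category.comp_id i, BC8.isRegularImmersion_one i hI, inferInstance,
    inferInstance, inferInstance, _, _, ExtFil4.isExtPow_one _, ExtFil4.isExtPow_zero _, ⟨?_⟩⟩
  exact (M2.pullTensorIso i L (ClSub.idealMod i.ker)).symm ≪≫ (Scheme.Modules.pullback i).mapIso e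

/-- A closed immersion sits in the zero-dimensional projective space over its target. -/
theorem qp_closedImmersion {D X : Scheme.{u}} (i : D ⟶ X) [IsClosedImmersion i] :
    ∃ (m : ℕ) (j : D ⟶ CohB1.ProjSpaceOver m X), IsImmersion j ∧ j ≫ CohB1.ProjSpaceOver.toBase m X = i := by
  haveI := P1Pow11.isIso_toSpec_zero.{u}
  haveI : IsIso (CohB1.ProjSpaceOver.toBase 0 X) :=
    inferInstanceAs (IsIso (pullback.snd (CohB1.ProjSpace.toSpec 0 (ULift.{u} ℤ)) (specULiftZIsTerminal.from X)))
  exact ⟨0, i ≫ inv (CohB1.ProjSpaceOver.toBase 0 X), inferInstance, by simp⟩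

end Groth.Agent.ArAdj22
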